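import Mathlib
import Groth.Prelude.Def_CAlgX

/-!
# Jets along a section and the triangular equations
-/

set_option autoImplicit false
set_option backward.isDefEq.respectTransparency false

universe u

open MvPolynomial

namespace Groth.Agent.SectSmoothLib

variable {A : Type u} [CommRing A]

/-- Polynomials at close points of an ideal are close. -/
theorem aeval_sub_mem {C : Type u} [CommRing C] [Algebra A C] {σ : Type*} (N : Ideal C) (a b : σ → C)
    (hab : ∀ i, a i - b i ∈ N) (p : MvPolynomial σ A) :
    MvPolynomial.aeval a p - MvPolynomial.aeval b p ∈ N := by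
  rw [← Ideal.Quotient.eq]
  have h : (Ideal.Quotient.mkₐ A N).comp (MvPolynomial.aeval a) = (Ideal.Quotient.mkₐ A N).comp (MvPolynomial.aeval b) :=
    MvPolynomial.algHom_ext fun i => by
      simp only [AlgHom.comp_apply, MvPolynomial.aeval_X, Ideal.Quotient.mkₐ_eq_mk, Ideal.Quotient.eq]
      exact hab i
  exact AlgHom.congr_fun h p

/-- The image of the ideal of the variables at a point of `N` is in `N`. -/
theorem aeval_mem {C : Type u} [CommRing C] [Algebra A C] {σ : Type*} {N : Ideal C} {a : σ → C}
    (ha : ∀ i, a i ∈ N) {p : MvPolynomial σ A} (hp : p ∈ idealOfVars σ A) : MvPolynomial.aeval a p ∈ N := by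
  refine (Ideal.map_le_iff_le_comap (f := MvPolynomial.aeval a)).1 ?_ hp
  rw [idealOfVars, Ideal.map_span, Ideal.span_le]
  rintro _ ⟨_, ⟨i, rfl⟩, rfl⟩
  simpa using ha i

/-- Polynomials without linear terms contract distances. -/
theorem aeval_sub_mem_succ {C : Type u} [CommRing C] [Algebra A C] {σ : Type*} (N : Ideal C) (k : ℕ) (a b : σ → C)
    (ha : ∀ i, a i ∈ N) (hb : ∀ i, b i ∈ N) (hab : ∀ i, a i - b i ∈ N ^ k) {p : MvPolynomial σ A}
    (hp : p ∈ idealOfVars σ A ^ 2) : MvPolynomial.aeval a p - MvPolynomial.aeval b p ∈ N ^ (k + 1) := by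
  rw [pow_two, ← smul_eq_mul] at hp
  refine Submodule.smul_induction_on hp (fun q hq q' hq' => ?_) (fun x y hx hy => ?_)
  · rw [smul_eq_mul, map_mul, map_mul,
      show MvPolynomial.aeval a q * MvPolynomial.aeval a q' - MvPolynomial.aeval b q * MvPolynomial.aeval b q' =
        MvPolynomial.aeval a q * (MvPolynomial.aeval a q' - MvPolynomial.aeval b q') +
          (MvPolynomial.aeval a q - MvPolynomial.aeval b q) * MvPolynomial.aeval b q' by ring]
    refine add_mem ?_ ?_
    · rw [pow_succ']
      exact Ideal.mul_mem_mul (aeval_mem ha hq) (aeval_sub_mem _ a b hab q')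
    · rw [pow_succ]
      exact Ideal.mul_mem_mul (aeval_sub_mem _ a b hab q) (aeval_mem hb hq')
  · rw [map_add, map_add, add_sub_add_comm]
    exact add_mem hx hy

variable {d n : ℕ}

/-- The approximate solution of `x = h (T, x)`. -/
noncomputable def approx (h : Fin n → MvPolynomial (Fin d ⊕ Fin n) A) : ℕ → Fin n → MvPolynomial (Fin d) A
  | 0 => fun _ => 0
  | k + 1 => fun i => MvPolynomial.aeval (Sum.elim MvPolynomial.X (approx h k)) (h i)

/-- The retraction to jets of order `k`. -/
noncomputable def jet (h : Fin n → MvPolynomial (Fin d ⊕ Fin n) A) (k : ℕ) :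
    MvPolynomial (Fin d ⊕ Fin n) A →ₐ[A] MvPolynomial (Fin d) A :=
  MvPolynomial.aeval (Sum.elim MvPolynomial.X (approx h k))

variable {h : Fin n → MvPolynomial (Fin d ⊕ Fin n) A} (hh : ∀ i, h i ∈ idealOfVars (Fin d ⊕ Fin n) A ^ 2)

include hh in
theorem approx_mem (k : ℕ) (i : Fin n) : approx h k i ∈ idealOfVars (Fin d) A := by
  induction k generalizing i with
  | zero => exact Ideal.zero_mem _
  | succ k ih =>
    refine aeval_mem (fun j => ?_) (Ideal.pow_le_self two_ne_zero (hh i))
    rcases j with l | l
    · exact Ideal.subset_span ⟨l, rfl⟩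
    · exact ih l

include hh in
theorem approx_succ_sub (k : ℕ) (i : Fin n) : approx h (k + 1) i - approx h k i ∈ idealOfVars (Fin d) A ^ (k + 1) := by
  induction k generalizing i with
  | zero =>
    rw [pow_one]
    exact sub_mem (approx_mem hh 1 i) (approx_mem hh 0 i)
  | succ k ih =>
    refine aeval_sub_mem_succ _ _ _ _ (fun j => ?_) (fun j => ?_) (fun j => ?_) (hh i)
    · rcases j with l | l
      · exact Ideal.subset_span ⟨l, rfl⟩
      · exact approx_mem hh (k + 1) l
    · rcases j with l | l
      · exact Ideal.subset_span ⟨l, rfl⟩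
      · exact approx_mem hh k l
    · rcases j with l | l
      · simp
      · exact ih l

include hh in
theorem jet_eqn (k : ℕ) (i : Fin n) :
    jet h k (MvPolynomial.X (Sum.inr i)) - jet h k (h i) ∈ idealOfVars (Fin d) A ^ (k + 1) := by
  rw [← neg_sub]
  refine neg_mem ?_
  simp only [jet, MvPolynomial.aeval_X, Sum.elim_inr]
  exact approx_succ_sub hh k i

include hh in
/-- A map killing the equations up to order `k` factors through the jets. -/
theorem aeval_jet_sub_mem {C : Type u} [CommRing C] [Algebra A C] (N : Ideal C)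
    (Φ : MvPolynomial (Fin d ⊕ Fin n) A →ₐ[A] C) (hΦ : ∀ j, Φ (MvPolynomial.X j) ∈ N) (k : ℕ)
    (hΦf : ∀ i, Φ (MvPolynomial.X (Sum.inr i) - h i) ∈ N ^ (k + 1)) (p : MvPolynomial (Fin d ⊕ Fin n) A) :
    Φ p - MvPolynomial.aeval (fun l => Φ (MvPolynomial.X (Sum.inl l))) (jet h k p) ∈ N ^ (k + 1) := by
  let η := MvPolynomial.aeval (R := A) fun l => Φ (MvPolynomial.X (Sum.inl l))
  let a : Fin d ⊕ Fin n → C := fun j => Φ (MvPolynomial.X j)
  let b : Fin d ⊕ Fin n → C := fun j => η (jet h k (MvPolynomial.X j))
  have ha : Φ = MvPolynomial.aeval a := MvPolynomial.algHom_ext fun j => by simp [a]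
  have hb : η.comp (jet h k) = MvPolynomial.aeval b := MvPolynomial.algHom_ext fun j => by simp [b]
  have hbN : ∀ j, b j ∈ N := fun j => by
    refine aeval_mem (fun l => hΦ _) ?_
    rcases j with l | l
    · simp only [jet, MvPolynomial.aeval_X, Sum.elim_inl]; exact Ideal.subset_span ⟨l, rfl⟩
    · simp only [jet, MvPolynomial.aeval_X, Sum.elim_inr]; exact approx_mem hh k l
  have hηN : ∀ q ∈ idealOfVars (Fin d) A ^ (k + 1), η q ∈ N ^ (k + 1) := fun q hq => by
    refine (Ideal.pow_right_mono ?_ (k + 1)) ((Ideal.map_pow η.toRingHom (idealOfVars (Fin d) A) (k + 1)).le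
      (Ideal.mem_map_of_mem _ hq))
    rw [idealOfVars, Ideal.map_span, Ideal.span_le]
    rintro _ ⟨_, ⟨l, rfl⟩, rfl⟩
    simpa [η] using hΦ (Sum.inl l)
  have key : ∀ m ≤ k, ∀ j, a j - b j ∈ N ^ (m + 1) := by
    intro m
    induction m with
    | zero => intro _ j; rw [zero_add, pow_one]; exact sub_mem (hΦ j) (hbN j)
    | succ m ih =>
      intro hm j
      rcases j with l | l
      · rw [show a (Sum.inl l) - b (Sum.inl l) = 0 by simp [a, b, η, jet]]
        exact Ideal.zero_mem _
      · have e1 : a (Sum.inr l) - MvPolynomial.aeval a (h l) ∈ N ^ (m + 1 + 1) := by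
          rw [← ha]
          have := Ideal.pow_le_pow_right (I := N) (show m + 1 + 1 ≤ k + 1 by omega) (hΦf l)
          rwa [map_sub] at this
        have e2 : b (Sum.inr l) - MvPolynomial.aeval b (h l) ∈ N ^ (m + 1 + 1) := by
          rw [← hb, AlgHom.comp_apply]
          show η (jet h k (MvPolynomial.X (Sum.inr l))) - η (jet h k (h l)) ∈ _
          rw [← map_sub]
          exact Ideal.pow_le_pow_right (show m + 1 + 1 ≤ k + 1 by omega) (hηN _ (jet_eqn hh k l))
        have e3 := aeval_sub_mem_succ N (m + 1) a b hΦ hbN (ih (by omega)) (hh l)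
        have := add_mem (sub_mem e1 e2) e3
        convert this using 1
        ring
  have := aeval_sub_mem (N ^ (k + 1)) a b (key k le_rfl) p
  rwa [← ha, ← hb] at this

/-- The jets commute with a change of coefficients. -/
theorem map_jet {A₀ : Type u} [CommRing A₀] (φ : A₀ →+* A) (h₀ : Fin n → MvPolynomial (Fin d ⊕ Fin n) A₀)
    (k : ℕ) (p : MvPolynomial (Fin d ⊕ Fin n) A₀) :
    MvPolynomial.map φ (jet h₀ k p) = jet (fun i => MvPolynomial.map φ (h₀ i)) k (MvPolynomial.map φ p) := by
  induction k generalizing p with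
  | zero =>
    induction p using MvPolynomial.induction_on with
    | C a => simp [jet]
    | add p q hp hq => simp only [map_add, hp, hq]
    | mul_X p j hp =>
      rcases j with l | l <;> simp only [map_mul, hp] <;> simp [jet, approx]
  | succ k ih =>
    induction p using MvPolynomial.induction_on with
    | C a => simp [jet]
    | add p q hp hq => simp only [map_add, hp, hq]
    | mul_X p j hp =>
      rcases j with l | l <;> simp only [map_mul, hp, MvPolynomial.map_X] <;> congr 1
      · simp [jet]
      · simp only [jet, MvPolynomial.aeval_X, Sum.elim_inr, approx]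
        exact ih (h₀ l)

omit hh in
/-- A polynomial with values in a high power of a quasi-regular ideal over a retraction has high order. -/
theorem mem_pow_of_aeval_mem {B : Type u} [CommRing B] [Algebra A B] (ε : B →ₐ[A] A) {t : Fin d → B}
    (ht : CAlgX.IsQuasiRegular t) (hker : RingHom.ker ε.toRingHom = Ideal.span (Set.range t)) (k : ℕ)
    (p : MvPolynomial (Fin d) A) (hp : MvPolynomial.aeval t p ∈ Ideal.span (Set.range t) ^ k) :
    p ∈ idealOfVars (Fin d) A ^ k := by
  classical
  induction k with
  | zero => simp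
  | succ k ih =>
    have hk := ih (Ideal.pow_le_pow_right k.le_succ hp)
    let q := MvPolynomial.homogeneousComponent k p
    have hq : p - q ∈ idealOfVars (Fin d) A ^ (k + 1) := by
      rw [mem_pow_idealOfVars_iff']
      intro x hx
      rw [MvPolynomial.coeff_sub, MvPolynomial.coeff_homogeneousComponent]
      by_cases hxk : Finsupp.degree x = k
      · rw [if_pos hxk, sub_self]
      · rw [if_neg hxk, sub_zero]
        exact (mem_pow_idealOfVars_iff' k p).1 hk x (by omega)
    have hqI : MvPolynomial.aeval t q ∈ Ideal.span (Set.range t) ^ (k + 1) := by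
      have h1 : MvPolynomial.aeval t (p - q) ∈ Ideal.span (Set.range t) ^ (k + 1) := by
        refine (Ideal.pow_right_mono ?_ (k + 1)) ((Ideal.map_pow (MvPolynomial.aeval t).toRingHom
          (idealOfVars (Fin d) A) (k + 1)).le (Ideal.mem_map_of_mem _ hq))
        rw [idealOfVars, Ideal.map_span, Ideal.span_le]
        rintro _ ⟨_, ⟨l, rfl⟩, rfl⟩
        simp only [RingHom.coe_coe, AlgHom.toRingHom_eq_coe, MvPolynomial.aeval_X]
        exact Ideal.subset_span (Set.mem_range_self l)
      have := sub_mem hp h1
      rwa [← map_sub, sub_sub_cancel] at this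
    have hP : (MvPolynomial.map (algebraMap A B) q).IsHomogeneous k :=
      (MvPolynomial.homogeneousComponent_isHomogeneous k p).map _
    have hcoe := ht k _ hP (by rwa [MvPolynomial.eval_map, ← MvPolynomial.aeval_def])
    have hq0 : q = 0 := by
      ext x
      have := hcoe x
      rw [MvPolynomial.coeff_map, ← hker, RingHom.mem_ker] at this
      rw [MvPolynomial.coeff_zero]
      exact (ε.commutes _).symm.trans this
    rwa [hq0, sub_zero] at hq

end Groth.Agent.SectSmoothLib
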