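import Mathlib
import Groth.Agent.SectSmoothLib.Jet

/-!
# Quasi-regular sections are smooth points
-/

set_option autoImplicit false
set_option backward.isDefEq.respectTransparency false
set_option linter.style.haveILetI false

universe u

open MvPolynomial TensorProduct IsLocalRing

namespace Groth.Agent.SectSmoothLib

variable {A : Type u} [CommRing A] {d n : ℕ}

/-- The Noetherian case of the next statement. -/
theorem exists_mul_mem_span_noeth [IsNoetherianRing A] {h : Fin n → MvPolynomial (Fin d ⊕ Fin n) A}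
    (hh : ∀ i, h i ∈ idealOfVars (Fin d ⊕ Fin n) A ^ 2) (g : MvPolynomial (Fin d ⊕ Fin n) A)
    (hg : ∀ k, jet h k g ∈ idealOfVars (Fin d) A ^ (k + 1)) :
    ∃ u ∈ idealOfVars (Fin d ⊕ Fin n) A,
      (1 - u) * g ∈ Ideal.span (Set.range fun i => X (Sum.inr i) - h i) := by
  let F : Ideal (MvPolynomial (Fin d ⊕ Fin n) A) := Ideal.span (Set.range fun i => X (Sum.inr i) - h i)
  let mk := Ideal.Quotient.mkₐ A F
  let N := (idealOfVars (Fin d ⊕ Fin n) A).map mk.toRingHom
  have hmkN : ∀ j, mk (X j) ∈ N := fun j => Ideal.mem_map_of_mem _ (Ideal.subset_span ⟨j, rfl⟩)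
  have hpow : ∀ k, mk g ∈ N ^ k := by
    intro k
    refine Ideal.pow_le_pow_right k.le_succ ?_
    have h1 := aeval_jet_sub_mem hh N mk hmkN k (fun i => by
      rw [show mk (X (Sum.inr i) - h i) = 0 from Ideal.Quotient.eq_zero_iff_mem.2 (Ideal.subset_span ⟨i, rfl⟩)]
      exact Ideal.zero_mem _) g
    have h2 : MvPolynomial.aeval (fun l => mk (X (Sum.inl l))) (jet h k g) ∈ N ^ (k + 1) := by
      refine (Ideal.pow_right_mono ?_ (k + 1)) ((Ideal.map_pow (MvPolynomial.aeval fun l => mk (X (Sum.inl l))).toRingHom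
        (idealOfVars (Fin d) A) (k + 1)).le (Ideal.mem_map_of_mem _ (hg k)))
      rw [idealOfVars, Ideal.map_span, Ideal.span_le]
      rintro _ ⟨_, ⟨l, rfl⟩, rfl⟩
      simpa using hmkN (Sum.inl l)
    have := add_mem h1 h2
    rwa [sub_add_cancel] at this
  obtain ⟨⟨r, hr⟩, hrg⟩ := (Ideal.mem_iInf_smul_pow_eq_bot_iff N (mk g)).1 (by
    rw [Submodule.mem_iInf]
    intro k
    rw [smul_eq_mul, Ideal.mul_top]
    exact hpow k)
  obtain ⟨u, hu, rfl⟩ := (Ideal.mem_map_iff_of_surjective mk.toRingHom Ideal.Quotient.mk_surjective).1 hr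
  refine ⟨u, hu, ?_⟩
  rw [← Ideal.Quotient.eq_zero_iff_mem]
  show mk ((1 - u) * g) = 0
  rw [map_mul, map_sub, map_one, sub_mul, one_mul, sub_eq_zero]
  exact hrg.symm

/-- Elements all whose jets vanish lie in the ideal of the equations near the section. -/
theorem exists_mul_mem_span {h : Fin n → MvPolynomial (Fin d ⊕ Fin n) A}
    (hh : ∀ i, h i ∈ idealOfVars (Fin d ⊕ Fin n) A ^ 2) (g : MvPolynomial (Fin d ⊕ Fin n) A)
    (hg : ∀ k, jet h k g ∈ idealOfVars (Fin d) A ^ (k + 1)) :
    ∃ u ∈ idealOfVars (Fin d ⊕ Fin n) A,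
      (1 - u) * g ∈ Ideal.span (Set.range fun i => X (Sum.inr i) - h i) := by
  classical
  let S : Set A := ↑g.coeffs ∪ ⋃ i, ↑(h i).coeffs
  have hS : S.Finite := g.coeffs.finite_toSet.union (Set.finite_iUnion fun i => (h i).coeffs.finite_toSet)
  let A₀ := Algebra.adjoin ℤ S
  haveI : Algebra.FiniteType ℤ A₀ :=
    (A₀.fg_iff_finiteType).1 (Subalgebra.fg_def.2 ⟨S, hS, rfl⟩)
  haveI : IsNoetherianRing A₀ := Algebra.FiniteType.isNoetherianRing ℤ A₀
  let φ : A₀ →+* A := A₀.val.toRingHom
  have hφ : Function.Injective φ := Subtype.val_injective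
  have hlift : ∀ p : MvPolynomial (Fin d ⊕ Fin n) A, (↑p.coeffs : Set A) ⊆ S →
      p ∈ Set.range (MvPolynomial.map φ) := fun p hp =>
    MvPolynomial.mem_range_map_iff_coeffs_subset.2 fun a ha => ⟨⟨a, Algebra.subset_adjoin (hp ha)⟩, rfl⟩
  obtain ⟨g₀, hg₀⟩ := hlift g Set.subset_union_left
  choose h₀ hh₀ using fun i => hlift (h i) ((Set.subset_iUnion (fun i => (↑(h i).coeffs : Set A)) i).trans
    Set.subset_union_right)
  have hmem : ∀ {σ : Type} (k : ℕ) (p : MvPolynomial σ A₀),
      MvPolynomial.map φ p ∈ idealOfVars σ A ^ k → p ∈ idealOfVars σ A₀ ^ k := by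
    intro σ k p hp
    rw [mem_pow_idealOfVars_iff'] at hp ⊢
    intro x hx
    refine hφ ?_
    rw [map_zero, ← MvPolynomial.coeff_map]
    exact hp x hx
  have hh₀' : ∀ i, h₀ i ∈ idealOfVars (Fin d ⊕ Fin n) A₀ ^ 2 := fun i => hmem 2 _ (by rw [hh₀]; exact hh i)
  obtain ⟨u, hu, h3⟩ := exists_mul_mem_span_noeth hh₀' g₀ fun k => hmem _ _ (by rw [map_jet, hg₀, funext hh₀]; exact hg k)
  refine ⟨MvPolynomial.map φ u, ?_, ?_⟩
  · have := Ideal.mem_map_of_mem (MvPolynomial.map φ) hu
    rw [idealOfVars, Ideal.map_span] at this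
    refine Ideal.span_le.2 ?_ this
    rintro _ ⟨_, ⟨j, rfl⟩, rfl⟩
    rw [MvPolynomial.map_X]
    exact Ideal.subset_span ⟨j, rfl⟩
  · have h4 := Ideal.mem_map_of_mem (MvPolynomial.map φ) h3
    rw [map_mul, map_sub, map_one, hg₀, Ideal.map_span] at h4
    refine Ideal.span_le.2 ?_ h4
    rintro _ ⟨_, ⟨i, rfl⟩, rfl⟩
    rw [map_sub, MvPolynomial.map_X, hh₀]
    exact Ideal.subset_span ⟨i, rfl⟩

/-- A functional killing the products of two elements of a prime. -/
theorem apply_D_mem {R P : Type u} [CommRing R] [Algebra A R] [CommRing P] [Algebra R P] [Algebra A P]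
    [IsScalarTower A R P] (M : Ideal P) (m : Ideal R) (hm : m.map (algebraMap R P) ≤ M) (L : Ω[P⁄A] →ₗ[P] P)
    {p : R} (hp : p ∈ m ^ 2) : L (KaehlerDifferential.D A P (algebraMap R P p)) ∈ M := by
  rw [pow_two, ← smul_eq_mul] at hp
  refine Submodule.smul_induction_on hp (fun a ha b hb => ?_) (fun x y hx hy => ?_)
  · rw [smul_eq_mul, map_mul, Derivation.leibniz, map_add, map_smul, map_smul, smul_eq_mul, smul_eq_mul]
    exact add_mem (M.mul_mem_right _ (hm (Ideal.mem_map_of_mem _ ha)))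
      (M.mul_mem_right _ (hm (Ideal.mem_map_of_mem _ hb)))
  · rw [map_add, map_add, map_add]
    exact add_mem hx hy

/-- At a prime on a quasi-regular section the algebra is formally smooth. -/
theorem isSmoothAt_of_quasi {B : Type u} [CommRing B] [Algebra A B] [Algebra.FinitePresentation A B]
    (ε : B →ₐ[A] A) (t : Fin d → B) (ht : CAlgX.IsQuasiRegular t)
    (hker : RingHom.ker ε.toRingHom = Ideal.span (Set.range t)) (q : Ideal B) [q.IsPrime]
    (hq : RingHom.ker ε.toRingHom ≤ q) : Algebra.IsSmoothAt A q := by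
  classical
  obtain ⟨n, π₀, hπ₀, -⟩ := Algebra.FinitePresentation.out (R := A) (A := B)
  let I := Ideal.span (Set.range t)
  have hx : ∀ i, π₀ (X i) - algebraMap A B (ε (π₀ (X i))) ∈ I := fun i => by
    show _ ∈ Ideal.span (Set.range t)
    rw [← hker, RingHom.mem_ker]
    simp
  choose M hM using fun i => (Ideal.mem_span_range_iff_exists_fun (v := t)).1 (hx i)
  let y : Fin n → B := fun i => ∑ l, (M i l - algebraMap A B (ε (M i l))) * t l
  have hy : ∀ i, y i ∈ I ^ 2 := fun i => Ideal.sum_mem _ fun l _ => by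
    rw [pow_two]
    refine Ideal.mul_mem_mul ?_ (Ideal.subset_span ⟨l, rfl⟩)
    show _ ∈ Ideal.span (Set.range t)
    rw [← hker, RingHom.mem_ker]
    simp
  let π : MvPolynomial (Fin d ⊕ Fin n) A →ₐ[A] B := MvPolynomial.aeval (Sum.elim t y)
  let s : MvPolynomial (Fin n) A →ₐ[A] MvPolynomial (Fin d ⊕ Fin n) A := MvPolynomial.aeval fun i =>
    X (Sum.inr i) + C (ε (π₀ (X i))) + ∑ l, C (ε (M i l)) * X (Sum.inl l)
  have hs : π.comp s = π₀ := MvPolynomial.algHom_ext fun i => by
    simp only [s, π, AlgHom.comp_apply, MvPolynomial.aeval_X, map_add, map_sum, map_mul, MvPolynomial.aeval_C,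
      Sum.elim_inl, Sum.elim_inr, y, sub_mul, Finset.sum_sub_distrib]
    rw [hM i]
    ring
  have hπ : Function.Surjective π := fun b => by
    obtain ⟨p, hp⟩ := hπ₀ b
    exact ⟨s p, by rw [← AlgHom.comp_apply, hs, hp]⟩
  let m := idealOfVars (Fin d ⊕ Fin n) A
  have hmI : m.map π.toRingHom = I := by
    rw [show m = Ideal.span (Set.range X) from rfl, Ideal.map_span]
    refine le_antisymm (Ideal.span_le.2 ?_) (Ideal.span_le.2 ?_)
    · rintro _ ⟨_, ⟨j, rfl⟩, rfl⟩
      rcases j with l | l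
      · simp only [π, AlgHom.toRingHom_eq_coe, RingHom.coe_coe, MvPolynomial.aeval_X, Sum.elim_inl]
        exact Ideal.subset_span (Set.mem_range_self l)
      · simp only [π, AlgHom.toRingHom_eq_coe, RingHom.coe_coe, MvPolynomial.aeval_X, Sum.elim_inr]
        exact Ideal.pow_le_self two_ne_zero (hy l)
    · rintro _ ⟨l, rfl⟩
      refine Ideal.subset_span ⟨X (Sum.inl l), ⟨_, rfl⟩, ?_⟩
      simp [π]
  choose h hh hπh using fun i => (Ideal.mem_map_iff_of_surjective π.toRingHom hπ).1
    (show y i ∈ (m ^ 2).map π.toRingHom by rw [Ideal.map_pow, hmI]; exact hy i)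
  let f : Fin n → MvPolynomial (Fin d ⊕ Fin n) A := fun i => X (Sum.inr i) - h i
  have hπX : ∀ j, π (X j) ∈ I := fun j => by
    rw [← hmI]
    exact Ideal.mem_map_of_mem _ (Ideal.subset_span ⟨j, rfl⟩)
  have hπf : ∀ i, π (f i) = 0 := fun i => by
    rw [map_sub, sub_eq_zero]
    refine Eq.trans ?_ (hπh i).symm
    simp [π]
  -- the kernel near the section
  have hloc : ∀ g, π g = 0 → ∃ u ∈ m, (1 - u) * g ∈ Ideal.span (Set.range f) := by
    refine fun g hg => exists_mul_mem_span hh g fun k => mem_pow_of_aeval_mem ε ht hker (k + 1) _ ?_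
    have h1 := aeval_jet_sub_mem hh I π hπX k (fun i => by
      rw [show π (X (Sum.inr i) - h i) = 0 from hπf i]; exact Ideal.zero_mem _) g
    rw [hg, zero_sub, neg_mem_iff] at h1
    convert h1 using 4
    simp [π]
  let Q : Ideal (MvPolynomial (Fin d ⊕ Fin n) A) := q.comap π.toRingHom
  haveI : Q.IsPrime := Ideal.IsPrime.comap _
  have hmQ : m ≤ Q := Ideal.map_le_iff_le_comap.1 (by rw [hmI]; exact hker.ge.trans hq)
  let P := Localization.AtPrime Q
  let S := Localization.AtPrime q
  letI : Algebra P S := (Localization.localRingHom Q q π.toRingHom rfl).toAlgebra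
  haveI : IsScalarTower A P S := .of_algebraMap_eq fun a => by
    rw [IsScalarTower.algebraMap_apply A (MvPolynomial (Fin d ⊕ Fin n) A) P, RingHom.algebraMap_toAlgebra,
      Localization.localRingHom_to_map, IsScalarTower.algebraMap_apply A B S]
    congr 1
    exact (π.commutes a).symm
  have hsurj : Function.Surjective (algebraMap P S) := fun z => by
    obtain ⟨b, ⟨w, hw⟩, rfl⟩ := IsLocalization.exists_mk'_eq q.primeCompl z
    obtain ⟨b', rfl⟩ := hπ b
    obtain ⟨w', rfl⟩ := hπ w
    exact ⟨IsLocalization.mk' P b' (⟨w', hw⟩ : Q.primeCompl), by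
      rw [RingHom.algebraMap_toAlgebra]; exact Localization.localRingHom_mk' _ _ _ _ b' ⟨w', hw⟩⟩
  let F : Fin n → P := fun i => algebraMap _ P (f i)
  have hF : ∀ i, F i ∈ RingHom.ker (algebraMap P S) := fun i => by
    rw [RingHom.mem_ker, RingHom.algebraMap_toAlgebra]
    show Localization.localRingHom Q q π.toRingHom rfl (algebraMap _ P (f i)) = 0
    rw [Localization.localRingHom_to_map]
    show algebraMap B S (π (f i)) = 0
    rw [hπf, map_zero]
  have hkerP : RingHom.ker (algebraMap P S) = Ideal.span (Set.range F) := by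
    refine le_antisymm (fun z hz => ?_) (Ideal.span_le.2 (Set.range_subset_iff.2 hF))
    obtain ⟨a, ⟨w, hw⟩, rfl⟩ := IsLocalization.exists_mk'_eq Q.primeCompl z
    rw [RingHom.mem_ker, RingHom.algebraMap_toAlgebra, Localization.localRingHom_mk',
      IsLocalization.mk'_eq_zero_iff] at hz
    obtain ⟨⟨v, hv⟩, hva⟩ := hz
    obtain ⟨v', rfl⟩ := hπ v
    obtain ⟨u, hu, hmem⟩ := hloc (v' * a) (by rw [map_mul]; exact hva)
    have hu' : (1 - u) * v' ∉ Q := fun hc => ((inferInstance : Q.IsPrime).mem_or_mem hc).elim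
      (fun h1 => (inferInstance : Q.IsPrime).ne_top ((Ideal.eq_top_iff_one Q).2 (by simpa using add_mem h1 (hmQ hu))))
      hv
    have h2 := Ideal.mem_map_of_mem (algebraMap _ P) hmem
    rw [Ideal.map_span, ← Set.range_comp, ← mul_assoc, map_mul] at h2
    rw [IsLocalization.mk'_eq_mul_mk'_one]
    exact Ideal.mul_mem_right _ _ ((Ideal.unit_mul_mem_iff_mem _
      (IsLocalization.map_units P (⟨_, hu'⟩ : Q.primeCompl))).1 h2)
  haveI : Algebra.FormallyEtale (MvPolynomial (Fin d ⊕ Fin n) A) P := .of_isLocalization Q.primeCompl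
  haveI : Algebra.FormallySmooth A P := Algebra.FormallySmooth.comp A (MvPolynomial (Fin d ⊕ Fin n) A) P
  let bΩ : Module.Basis (Fin d ⊕ Fin n) P Ω[P⁄A] := ((KaehlerDifferential.mvPolynomialBasis A (Fin d ⊕ Fin n)).baseChange P).map
    (KaehlerDifferential.tensorKaehlerEquivOfFormallyEtale A (MvPolynomial (Fin d ⊕ Fin n) A) P)
  haveI : Module.Free P Ω[P⁄A] := Module.Free.of_basis bΩ
  haveI : Module.Finite P Ω[P⁄A] := Module.Finite.of_basis bΩ
  show Algebra.FormallySmooth A S
  rw [Algebra.FormallySmooth.iff_injective_cotangentComplexBaseChange_residueField P hsurj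
    (by rw [hkerP]; exact Submodule.fg_span (Set.finite_range _))]
  let K := ResidueField S
  let L : Fin n → (Ω[P⁄A] →ₗ[P] P) := fun i => bΩ.coord (Sum.inr i)
  let MP := maximalIdeal P
  have hbD : ∀ j, bΩ j = KaehlerDifferential.D A P (algebraMap (MvPolynomial (Fin d ⊕ Fin n) A) P (X j)) := fun j => by
    simp [bΩ, KaehlerDifferential.tensorKaehlerEquivOfFormallyEtale, Module.Basis.baseChange_apply]
    exact one_smul P (KaehlerDifferential.D A P _)
  have hL : ∀ i j, L j (KaehlerDifferential.D A P (F i)) - (if i = j then 1 else 0) ∈ MP := fun i j => by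
    simp only [F, f, map_sub]
    rw [show L j (KaehlerDifferential.D A P (algebraMap _ P (X (Sum.inr i)))) = if i = j then 1 else 0 by
      rw [← hbD, Module.Basis.coord_apply, Module.Basis.repr_self, Finsupp.single_apply]
      simp]
    rw [sub_sub_cancel_left]
    refine neg_mem (apply_D_mem MP m ?_ (L j) (hh i))
    exact (Ideal.map_mono hmQ).trans (Localization.AtPrime.map_eq_maximalIdeal).le
  haveI : IsLocalHom (algebraMap P S) := Function.Surjective.isLocalHom _ hsurj
  have hMK : ∀ p ∈ MP, algebraMap P K p = 0 := fun p hp => by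
    rw [IsScalarTower.algebraMap_apply P S K, ← RingHom.mem_ker]
    show _ ∈ RingHom.ker (IsLocalRing.residue S)
    rw [IsLocalRing.ker_residue]
    exact map_maximalIdeal_le (algebraMap P S) (Ideal.mem_map_of_mem _ hp)
  let F' : Fin n → RingHom.ker (algebraMap P S) := fun i => ⟨F i, hF i⟩
  have hspan : ∀ v : K ⊗[P] RingHom.ker (algebraMap P S), ∃ c : Fin n → K, v = ∑ i, c i ⊗ₜ F' i := by
    intro v
    induction v using TensorProduct.induction_on with
    | zero => exact ⟨0, by simp⟩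
    | tmul c x =>
      obtain ⟨a, ha⟩ := (Ideal.mem_span_range_iff_exists_fun (v := F)).1 (hkerP.le x.2)
      refine ⟨fun i => a i • c, ?_⟩
      have hx : x = ∑ i, a i • F' i := Subtype.ext (by simp [F', ← ha])
      rw [hx, TensorProduct.tmul_sum]
      exact Finset.sum_congr rfl fun i _ => by rw [TensorProduct.tmul_smul, TensorProduct.smul_tmul']
    | add v w hv hw =>
      obtain ⟨a, rfl⟩ := hv
      obtain ⟨b, rfl⟩ := hw
      exact ⟨a + b, by simp [TensorProduct.add_tmul, Finset.sum_add_distrib]⟩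
  rw [injective_iff_map_eq_zero]
  intro v hv
  obtain ⟨c, rfl⟩ := hspan v
  suffices ∀ j, c j = 0 by simp [this]
  intro j
  have h1 := congrArg (TensorProduct.lift (LinearMap.mk₂ P (fun (c : K) (w : Ω[P⁄A]) => algebraMap P K (L j w) * c)
    (fun a b w => mul_add _ a b) (fun p a w => by rw [Algebra.smul_def, Algebra.smul_def]; ring)
    (fun a v w => by rw [map_add, map_add, add_mul]) (fun p a w => by
      rw [map_smul, smul_eq_mul, map_mul, Algebra.smul_def]; ring))) hv
  simp only [map_sum, KaehlerDifferential.cotangentComplexBaseChange_tmul, KaehlerDifferential.kerToTensor_apply, map_zero, TensorProduct.smul_tmul',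
    smul_eq_mul, mul_one, TensorProduct.lift.tmul, LinearMap.mk₂_apply] at h1
  rw [← h1, Finset.sum_eq_single j]
  · have h2 := hMK _ (hL j j)
    rw [if_pos rfl, map_sub, map_one, sub_eq_zero] at h2
    rw [h2, one_mul]
  · intro i _ hij
    have h2 := hMK _ (hL i j)
    rw [if_neg hij, sub_zero] at h2
    rw [h2, zero_mul]
  · exact fun hne => absurd (Finset.mem_univ j) hne

end Groth.Agent.SectSmoothLib
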