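import Mathlib
import Groth.Agent.SectSmoothLib.Ring
import Groth.Agent.RegSeqSlice.Section
import Groth.Agent.EtAlgEasy.QuasiRegNoeth
import Groth.Agent.SplitQuotLib.Scheme

/-!
# Smooth points on a section
-/

set_option autoImplicit false
set_option backward.isDefEq.respectTransparency false
set_option linter.style.haveILetI false

universe u

open CategoryTheory CategoryTheory.Limits AlgebraicGeometry TopologicalSpace Groth.Agent

namespace Groth.Agent.SectSmoothLib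

/-- Regularity at a point passes along open immersions of the target. -/
theorem isRegularImmersionAt_comp_open {Z X' X : Scheme.{u}} (σ : Z ⟶ X') (j : X' ⟶ X) [IsOpenImmersion j]
    (k : RegImm.Kind) (hk : k ≠ RegImm.Kind.regular) (z : Z) (h : RegImm.IsRegularImmersionAt k σ z) :
    RegImm.IsRegularImmersionAt k (σ ≫ j) z := by
  obtain ⟨⟨U', hU'⟩, hz, hc, rs, hrs, hker⟩ := h
  have hpre : j ⁻¹ᵁ (j ''ᵁ U') = U' := j.preimage_image_eq U'
  let ε : Γ(X', U') →+* Γ(X, j ''ᵁ U') := (j.appIso U').inv.hom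
  have hε : Function.Bijective ε := ConcreteCategory.bijective_of_isIso (j.appIso U').inv
  refine ⟨⟨j ''ᵁ U', hU'.image_of_isOpenImmersion j⟩, ⟨σ z, hz, rfl⟩, ?_, rs.map ε,
    RelDivLib.seq_flat ε (RingHom.Flat.of_bijective hε) k hk hrs, ?_⟩
  · have h1 : IsClosedImmersion (σ ∣_ (j ⁻¹ᵁ (j ''ᵁ U'))) :=
      (MorphismProperty.arrow_mk_iso_iff @IsClosedImmersion (morphismRestrictEq σ hpre)).2 hc
    haveI := h1
    have hbij : IsIso (j ∣_ (j ''ᵁ U')) := by
      haveI : Surjective (j ∣_ (j ''ᵁ U')) := ⟨fun x => by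
        obtain ⟨x', hx', hxe⟩ := x.2
        exact ⟨⟨x', hpre.ge hx'⟩, Subtype.ext (by simp only [morphismRestrict_base]; exact hxe)⟩⟩
      exact isIso_iff_isOpenImmersion_and_surjective _ |>.2 ⟨inferInstance, inferInstance⟩
    haveI := hbij
    show IsClosedImmersion ((σ ≫ j) ∣_ (j ''ᵁ U'))
    rw [morphismRestrict_comp]
    infer_instance
  · rw [← Ideal.map_ofList, ← hker]
    refine Eq.trans ?_ (Ideal.comap_symm (RingEquiv.ofBijective ε hε))
    ext x
    obtain ⟨y, rfl⟩ := hε.2 x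
    rw [RingHom.mem_ker, Ideal.mem_comap]
    show (σ ≫ j).app (j ''ᵁ U') (ε y) = 0 ↔ (RingEquiv.ofBijective ε hε).symm (ε y) ∈ RingHom.ker (σ.app U').hom
    rw [show (RingEquiv.ofBijective ε hε).symm (ε y) = y from (RingEquiv.ofBijective ε hε).symm_apply_apply y,
      RingHom.mem_ker, Scheme.Hom.comp_app, CommRingCat.comp_apply]
    have h1 : j.app (j ''ᵁ U') (ε y) = (X'.presheaf.map (eqToHom hpre).op) y := by
      rw [← CommRingCat.comp_apply]
      exact congr($(j.appIso_inv_app U') y)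
    have h2 : (σ.app (j ⁻¹ᵁ (j ''ᵁ U'))) ((X'.presheaf.map (eqToHom hpre).op) y) =
        (Z.presheaf.map (eqToHom (congrArg (σ ⁻¹ᵁ ·) hpre)).op) (σ.app U' y) := by
      rw [← CommRingCat.comp_apply, σ.naturality, CommRingCat.comp_apply]
      rfl
    rw [h1]
    erw [h2]
    exact ⟨fun h => (ConcreteCategory.bijective_of_isIso (Z.presheaf.map (eqToHom (congrArg (σ ⁻¹ᵁ ·) hpre)).op)).1
      (h.trans (map_zero _).symm), fun h => by rw [h, map_zero]⟩

/-- The identity on sections. -/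
theorem appLE_of_eq_id {S : Scheme.{u}} (φ : S ⟶ S) (hφ : φ = 𝟙 S) (D : S.Opens) (e : D ≤ φ ⁻¹ᵁ D) (c : Γ(S, D)) :
    φ.appLE D D e c = c := by
  subst hφ
  simp [Scheme.Hom.appLE]
  exact congr($(S.presheaf.map_id (Opposite.op D)) c)

variable {X S : Scheme.{u}} (f : X ⟶ S) [LocallyOfFinitePresentation f] (u : S ⟶ X) (hu : u ≫ f = 𝟙 S)

include hu in
theorem apply_section (z : S) : f (u z) = z := by rw [← Scheme.Hom.comp_apply, hu]; rfl

include hu in
/-- A quasi-regular section passes through smooth points. -/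
theorem mem_smoothLocus_of_quasi (s : S) (h : RegImm.IsRegularImmersionAt RegImm.Kind.quasi u s) :
    u s ∈ f.smoothLocus := by
  obtain ⟨⟨U, hU⟩, hsU, hc, rs, hrs, hker⟩ := h
  obtain ⟨_, ⟨V₀ : S.Opens, hV₀, rfl⟩, hsV, -⟩ :=
    S.isBasis_affineOpens.exists_subset_of_mem_open (Set.mem_univ s) isOpen_univ
  obtain ⟨t₁, ht₁, hst₁⟩ := hU.exists_basicOpen_le (V := f ⁻¹ᵁ V₀) ⟨u s, show f (u s) ∈ V₀ by
    rw [apply_section f u hu]; exact hsV⟩ hsU
  obtain ⟨a, ha, hsa⟩ := hV₀.exists_basicOpen_le (V := u ⁻¹ᵁ X.basicOpen t₁) ⟨s, hst₁⟩ hsV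
  let U₂ := X.basicOpen (f.appLE V₀ (X.basicOpen t₁) ht₁ a)
  have hU₂eq : U₂ = X.basicOpen t₁ ⊓ f ⁻¹ᵁ S.basicOpen a := by simp only [U₂, Scheme.basicOpen_appLE]
  have hU₂ : IsAffineOpen U₂ := (hU.basicOpen t₁).basicOpen _
  let D := S.basicOpen a
  have hD : IsAffineOpen D := hV₀.basicOpen a
  have e : U₂ ≤ f ⁻¹ᵁ D := hU₂eq.le.trans inf_le_right
  have hpre : u ⁻¹ᵁ U₂ = D := by
    rw [hU₂eq]
    refine le_antisymm (fun z hz => ?_) (fun z hz => ⟨ha hz, show f (u z) ∈ D by rw [apply_section f u hu]; exact hz⟩)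
    have : f (u z) ∈ D := hz.2
    rwa [apply_section f u hu] at this
  have hsU₂ : u s ∈ U₂ := hpre.ge hsa
  have hle : U₂ ≤ U := (hU₂eq.le.trans inf_le_left).trans (X.basicOpen_le _)
  letI : Algebra Γ(S, D) Γ(X, U₂) := (f.appLE D U₂ e).hom.toAlgebra
  haveI : Algebra.FinitePresentation Γ(S, D) Γ(X, U₂) :=
    LocallyOfFinitePresentation.finitePresentation_appLE (f := f) hD hU₂ e
  let ε : Γ(X, U₂) →ₐ[Γ(S, D)] Γ(S, D) :=
    { (u.appLE U₂ D hpre.ge).hom with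
      commutes' := fun c => by
        show (f.appLE D U₂ e ≫ u.appLE U₂ D hpre.ge) c = c
        rw [Scheme.Hom.appLE_comp_appLE]
        exact appLE_of_eq_id (u ≫ f) hu D _ c }
  have hkerε : RingHom.ker ε.toRingHom = RingHom.ker (u.app U₂).hom := by
    show RingHom.ker (u.appLE U₂ D hpre.ge).hom = _
    rw [show (u.appLE U₂ D hpre.ge).hom = (S.presheaf.map (homOfLE hpre.ge).op).hom.comp (u.app U₂).hom by
      simp only [Scheme.Hom.appLE, CommRingCat.hom_comp]]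
    exact RingHom.ker_comp_of_injective _
      (ConcreteCategory.bijective_of_isIso (S.presheaf.map (eqToHom hpre.symm).op)).1
  let l := rs.map ((𝟙 X : X ⟶ X).appLE U U₂ hle).hom
  have hl : RegImm.Kind.quasi.Seq _ l :=
    RelDivLib.seq_flat _ (SplitQuotLib.flat_res hU hU₂ hle) .quasi (by decide) hrs
  have hkl : RingHom.ker ε.toRingHom = Ideal.span (Set.range l.get) := by
    rw [hkerε, SplitQuotLib.ker_res u hU hc hU₂ hle, hker, Ideal.map_ofList, RegKindDescLib.range_get]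
  have hq : RingHom.ker ε.toRingHom ≤ (hU₂.primeIdealOf ⟨u s, hsU₂⟩).asIdeal := by
    rw [hkerε]
    intro b hb
    by_contra hna
    have h1 : s ∈ S.basicOpen (u.app U₂ b) := by
      rw [← u.preimage_basicOpen]
      exact (RegKindDescLib.mem_basicOpen_iff hU₂ ⟨u s, hsU₂⟩ b).1 hna
    rw [RingHom.mem_ker.1 hb, Scheme.basicOpen_zero] at h1
    exact h1
  have hsm := isSmoothAt_of_quasi ε l.get hl hkl (hU₂.primeIdealOf ⟨u s, hsU₂⟩).asIdeal hq
  exact (formallySmooth_stalkMap_iff D hD U₂ hU₂ e hsU₂).mpr hsm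

include hu in
/-- Near a smooth point on it a section is quasi-regular. -/
theorem exists_quasi_of_mem_smoothLocus [IsImmersion u] (s : S) (h : u s ∈ f.smoothLocus) :
    ∃ V : S.Opens, s ∈ V ∧ RegImm.IsRegularImmersion RegImm.Kind.quasi (V.ι ≫ u) := by
  obtain ⟨_, ⟨V₀ : S.Opens, hV₀, rfl⟩, hsV, -⟩ :=
    S.isBasis_affineOpens.exists_subset_of_mem_open (Set.mem_univ s) isOpen_univ
  obtain ⟨_, ⟨U : X.Opens, hU, rfl⟩, hsU, hUle⟩ := X.isBasis_affineOpens.exists_subset_of_mem_open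
    (show u s ∈ ((f.smoothLocus ⊓ f ⁻¹ᵁ V₀ : X.Opens) : Set X) from
      ⟨h, show f (u s) ∈ V₀ by rw [apply_section f u hu]; exact hsV⟩) (f.smoothLocus ⊓ f ⁻¹ᵁ V₀).2
  obtain ⟨a, ha, hsa⟩ := hV₀.exists_basicOpen_le (V := u ⁻¹ᵁ U) ⟨s, hsU⟩ hsV
  have hUV₀ : U ≤ f ⁻¹ᵁ V₀ := fun x hx => (hUle hx).2
  let U₂ := X.basicOpen (f.appLE V₀ U hUV₀ a)
  have hU₂eq : U₂ = U ⊓ f ⁻¹ᵁ S.basicOpen a := by simp only [U₂, Scheme.basicOpen_appLE]
  let V := S.basicOpen a
  refine ⟨V, hsa, ?_⟩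
  haveI : IsAffine (U₂ : Scheme.{u}) := hU.basicOpen _
  haveI : IsAffine (V : Scheme.{u}) := hV₀.basicOpen a
  have eVU : V ≤ u ⁻¹ᵁ U₂ := fun z hz => by
    rw [hU₂eq]
    exact ⟨ha hz, show f (u z) ∈ V by rw [apply_section f u hu]; exact hz⟩
  have e : U₂ ≤ f ⁻¹ᵁ V := hU₂eq.le.trans inf_le_right
  haveI hsm : Smooth (U₂.ι ≫ f) := by
    rw [← Scheme.Hom.smoothLocus_eq_top_iff]
    rw [← Scheme.Hom.preimage_smoothLocus_eq]
    refine top_le_iff.1 fun x _ => ?_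
    exact (hUle (X.basicOpen_le _ x.2)).1
  let f' := f.resLE V U₂ e
  haveI : Smooth f' := by
    have hp : IsPullback (𝟙 _) f' (U₂.ι ≫ f) V.ι :=
      IsPullback.of_horiz_isIso_mono ⟨by simp [f', Scheme.Hom.resLE_comp_ι]⟩
    exact MorphismProperty.of_isPullback hp hsm
  let σ := u.resLE U₂ V eVU
  have hσ : σ ≫ f' = 𝟙 _ := by
    rw [← cancel_mono V.ι, Category.assoc, Scheme.Hom.resLE_comp_ι, ← Category.assoc, Scheme.Hom.resLE_comp_ι,
      Category.assoc, hu, Category.comp_id, Category.id_comp]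
  haveI : IsClosedImmersion σ := by
    haveI : IsClosedImmersion (σ ≫ f') := by rw [hσ]; infer_instance
    exact IsClosedImmersion.of_comp σ f'
  obtain ⟨-, hreg⟩ := RegSeqSlice.isRegularClosedImmersion_section f' σ hσ
  have hσr : RegImm.IsRegularImmersion RegImm.Kind.regular σ := by
    refine ⟨inferInstance, fun v => ?_⟩
    obtain ⟨U', hU', hv, rs, hrs, hK⟩ := hreg v
    exact ⟨⟨U', hU'⟩, hv, IsZariskiLocalAtTarget.restrict (P := @IsClosedImmersion) inferInstance _, rs, hrs,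
      by rw [← hK, Scheme.Hom.ker_apply]⟩
  rw [← Scheme.Hom.resLE_comp_ι u eVU]
  exact ⟨inferInstance, fun v => isRegularImmersionAt_comp_open σ U₂.ι .quasi (by decide) v
    ((EtAlgEasy.QuasiRegNoeth.quasi_of_regular σ hσr).2 v)⟩

include hu in
/-- Regularity of a section over an open of the base. -/
theorem isRegularImmersionAt_of_restrict (V : S.Opens) (s : S) (hsV : s ∈ V)
    (hV : RegImm.IsRegularImmersionAt RegImm.Kind.quasi (V.ι ≫ u) ⟨s, hsV⟩) :
    RegImm.IsRegularImmersionAt RegImm.Kind.quasi u s := by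
  obtain ⟨⟨U, hU⟩, hsU, hc, rs, hrs, hker⟩ := hV
  obtain ⟨t₁, ht₁, hst₁⟩ := hU.exists_basicOpen_le (V := f ⁻¹ᵁ V) ⟨u s, show f (u s) ∈ V by
    rw [apply_section f u hu]; exact hsV⟩ hsU
  have hW := hU.basicOpen t₁
  have hle : u ⁻¹ᵁ X.basicOpen t₁ ≤ V := fun z hz => by
    have := ht₁ hz
    rwa [Scheme.Hom.mem_preimage, apply_section f u hu] at this
  have hcW : IsClosedImmersion ((V.ι ≫ u) ∣_ X.basicOpen t₁) :=
    (RelDivLib.closed_and_ker_pullback (IsPullback.of_horiz_isIso (fst := 𝟙 _) (snd := V.ι ≫ u) (f := V.ι ≫ u)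
      (g := 𝟙 X) ⟨by simp⟩) hU hc hW (X.basicOpen_le t₁)).1
  refine ⟨⟨_, hW⟩, hst₁, ?_, rs.map ((𝟙 X : X ⟶ X).appLE U _ (X.basicOpen_le t₁)).hom,
    RelDivLib.seq_flat _ (SplitQuotLib.flat_res hU hW _) .quasi (by decide) hrs, ?_⟩
  · haveI : IsIso (V.ι ∣_ (u ⁻¹ᵁ X.basicOpen t₁)) := by
      haveI : Surjective (V.ι ∣_ (u ⁻¹ᵁ X.basicOpen t₁)) :=
        ⟨fun x => ⟨⟨⟨x.1, hle x.2⟩, x.2⟩, Subtype.ext (by simp [morphismRestrict_base])⟩⟩
      exact isIso_iff_isOpenImmersion_and_surjective _ |>.2 ⟨inferInstance, inferInstance⟩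
    rw [morphismRestrict_comp] at hcW
    exact (MorphismProperty.cancel_left_of_respectsIso @IsClosedImmersion _ _).1 hcW
  · rw [← Ideal.map_ofList, ← hker, ← SplitQuotLib.ker_res (V.ι ≫ u) hU hc hW (X.basicOpen_le t₁),
      Scheme.Hom.comp_app, CommRingCat.hom_comp]
    refine (RingHom.ker_comp_of_injective _ ?_).symm
    have : IsIso (V.ι.app (u ⁻¹ᵁ X.basicOpen t₁)) := by
      apply Scheme.Hom.isIso_app
      rw [Scheme.Opens.opensRange_ι]
      exact hle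
    exact (ConcreteCategory.bijective_of_isIso (V.ι.app (u ⁻¹ᵁ X.basicOpen t₁))).1

include hu in
/-- The smooth points on a section. -/
theorem mem_smoothLocus_iff_exists_quasi [IsImmersion u] (s : S) :
    u s ∈ f.smoothLocus ↔ ∃ V : S.Opens, s ∈ V ∧ RegImm.IsRegularImmersion RegImm.Kind.quasi (V.ι ≫ u) :=
  ⟨exists_quasi_of_mem_smoothLocus f u hu s, fun ⟨V, hsV, hV⟩ =>
    mem_smoothLocus_of_quasi f u hu s (isRegularImmersionAt_of_restrict f u hu V s hsV (hV.2 ⟨s, hsV⟩))⟩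

end Groth.Agent.SectSmoothLib
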